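import Groth.Agent.Lib.AcyN18.Main
import Groth.Agent.Lib.EtLimit.StalkRpushHens
import Groth.Agent.Lib.EtSite.PushStalk
import Groth.Agent.Lib.EtDer.ConstSec
import Groth.Agent.Lib.LocConst.ConstGerm
import Groth.Agent.Lib.DimFun18.Integral
import Groth.Agent.Lib.PurInsep.EtaleHom
import Groth.Agent.S0642
import Groth.Agent.S0538
import Groth.Agent.S0655
import Groth.Agent.S14451
import Groth.Agent.S0537

/-!
# Geometric fibres of acyclic morphisms
-/

set_option autoImplicit false
set_option backward.isDefEq.respectTransparency false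
set_option backward.isDefEq.respectTransparency.types false
set_option linter.style.haveILetI false
set_option linter.all false

universe u

open CategoryTheory CategoryTheory.Limits CategoryTheory.Abelian AlgebraicGeometry Opposite IsLocalRing
open GrothLib.EtSite

noncomputable section

namespace GrothLib.AcyFib18

/-- A scheme with exactly `ℓ` global sections of `Z/ℓ` is connected and nonempty. -/
theorem nonempty_connectedSpace (X : Scheme.{u}) (ℓ : ℕ) [Fact ℓ.Prime]
    (h : Nat.card (EtCoh.H X (EtCoh.const X (ZMod ℓ)) 0) = ℓ) : Nonempty X ∧ ConnectedSpace X := by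
  let M : AddCommGrpCat.{u + 1} := AddCommGrpCat.of (ULift.{u + 1} (ZMod ℓ))
  let e : EtCoh.H X (EtCoh.const X (ZMod ℓ)) 0 ≃ EtCoh.sect (EtCoh.const X (ZMod ℓ)) (EtCoh.top X) :=
    (CategoryTheory.Abelian.Ext.addEquiv₀.toEquiv).trans
      (Equiv.ofBijective _ (GrothLib.EtColim.bijective_evOne (EtCoh.const X (ZMod ℓ))))
  rw [Nat.card_congr e] at h
  have hp := (Fact.out : ℓ.Prime)
  have hne : Nonempty X := by
    by_contra hX
    haveI : IsEmpty (EtCoh.top X).left := ⟨fun x => hX ⟨x⟩⟩
    haveI := GrothLib.EtSite.subsingleton_sect_of_isEmpty (EtCoh.const X (ZMod ℓ)) (EtCoh.top X)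
    exact absurd (h.symm.trans (Nat.card_of_subsingleton (0 : EtCoh.sect (EtCoh.const X (ZMod ℓ)) (EtCoh.top X)))) hp.one_lt.ne'
  refine ⟨hne, ?_⟩
  haveI := hne
  haveI : PreconnectedSpace X := by
    refine preconnectedSpace_iff_clopen.2 fun U hU => ?_
    by_contra hcon
    rw [not_or] at hcon
    obtain ⟨a, ha⟩ := Set.nonempty_iff_ne_empty.2 hcon.1
    obtain ⟨b, hb⟩ := Set.ne_univ_iff_exists_notMem U |>.1 hcon.2
    classical
    have hlc : ∀ c d : M, IsLocallyConstant (fun v : (EtCoh.top X).left => if v ∈ U then c else d) := fun c d =>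
      (IsLocallyConstant.iff_exists_open _).2 fun v => by
        by_cases hv : v ∈ U
        · exact ⟨U, hU.isOpen, hv, fun w hw => by simp [hv, hw]⟩
        · exact ⟨Uᶜ, hU.compl.isOpen, hv, fun w hw => by simp [hv, show w ∉ U from hw]⟩
    choose s hs using fun c d => GrothLib.EtDer.exists_val M (EtCoh.top X) _ (hlc c d)
    haveI : Finite (EtCoh.sect (EtCoh.const X (ZMod ℓ)) (EtCoh.top X)) :=
      Nat.finite_of_card_ne_zero (by rw [h]; exact hp.ne_zero)
    have hinj : Function.Injective fun cd : M × M => s cd.1 cd.2 := fun x y hxy => by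
      have h1 := congrFun (congrArg (fun t v => GrothLib.EtDer.val M (EtCoh.top X) t v) hxy)
      have ha' := h1 a
      have hb' := h1 b
      simp only [hs] at ha' hb'
      simp [ha] at ha'
      simp [hb] at hb'
      exact Prod.ext ha' hb'
    have hle := Nat.card_le_card_of_injective _ hinj
    have hM : Nat.card M = ℓ := by
      change Nat.card (ULift.{u + 1} (ZMod ℓ)) = ℓ
      rw [Nat.card_congr Equiv.ulift, Nat.card_eq_fintype_card, ZMod.card]
    rw [Nat.card_prod, hM, h] at hle
    exact absurd hle (not_le.2 (lt_mul_of_one_lt_left hp.pos hp.one_lt))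
  exact { toNonempty := hne }

set_option maxHeartbeats 4000000 in
theorem geomFibres {X Y : Scheme.{u}} (g : X ⟶ Y) [QuasiCompact g] [QuasiSeparated g]
    (L : Set ℕ) (hL : ∃ ℓ ∈ L, ℓ.Prime) (n : ℕ) (hg : EtAcyc.IsAcyclicN g L n) :
    EtAcyc.GeomFibresAcyclicN L n g := by
  intro y Ω _ _ _ _
  obtain ⟨R, _, _, _, _, _⟩ := Groth.Agent.S0537.result (Y.presheaf.stalk y : Type u)
  let O : Type u := (Y.presheaf.stalk y : Type u)
  haveI hsc : IsSepClosure (ResidueField O) (ResidueField R) := Hensel.IsStrictHenselization.isSepClosure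
  haveI : IsSepClosed (ResidueField R) := hsc.sep_closed
  -- the closure of the point
  obtain ⟨Z, i, _, _, hr⟩ := GrothLib.DimFun18.exists_integral_closureOf y
  let s := Hens2.specOf Y y R
  let W := pullback i s
  let W' := pullback.snd i s
  let Wc := pullback.fst i s
  have hclosed : ∀ w : W, W' w = closedPoint R := by
    intro w
    let Q : PrimeSpectrum R := W' w
    let P : PrimeSpectrum O := PrimeSpectrum.comap (algebraMap O R) Q
    have h1 : Y.fromSpecStalk y P ⤳ y :=
      ((PrimeSpectrum.le_iff_specializes P (closedPoint O)).1 (le_maximalIdeal P.2.ne_top)).map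
        (Y.fromSpecStalk y).continuous |>.trans (specializes_of_eq (Y.fromSpecStalk_closedPoint (x := y)))
    have h2 : y ⤳ Y.fromSpecStalk y P := by
      rw [specializes_iff_mem_closure, ← hr]
      refine ⟨Wc w, ?_⟩
      rw [← Scheme.Hom.comp_apply, pullback.condition, Scheme.Hom.comp_apply]
      exact Scheme.Hom.comp_apply _ _ _
    have h3 : P = closedPoint O := (Y.fromSpecStalk y).isEmbedding.injective
      ((h1.antisymm h2).eq.trans (Y.fromSpecStalk_closedPoint (x := y)).symm)
    apply PrimeSpectrum.ext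
    change Q.asIdeal = maximalIdeal R
    refine le_antisymm (le_maximalIdeal Q.2.ne_top) ?_
    rw [← Groth.Agent.S0538.result O R, Ideal.map_le_iff_le_comap]
    exact (congrArg PrimeSpectrum.asIdeal h3).ge
  -- the closed point
  let κ := ResidueField R
  let ιR : Spec (CommRingCat.of κ) ⟶ Spec (CommRingCat.of R) := Spec.map (CommRingCat.ofHom (residue R))
  haveI : IsClosedImmersion ιR := IsClosedImmersion.spec_of_surjective _ residue_surjective
  obtain ⟨ζ, hζ⟩ := GrothLib.RedSub.exists_lift (ιR ≫ s) i (by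
    rintro _ ⟨z, rfl⟩
    rw [hr]
    refine specializes_iff_mem_closure.1 (specializes_of_eq ?_)
    rw [Scheme.Hom.comp_apply, show ιR z = closedPoint R from IsLocalRing.comap_closedPoint (residue R) ▸
      congrArg ιR (Subsingleton.elim (α := PrimeSpectrum κ) z (closedPoint κ))]
    refine Eq.symm ?_
    rw [show s (closedPoint R) = Y.fromSpecStalk y (closedPoint O) from
      (Scheme.Hom.comp_apply _ _ _).trans (congrArg (Y.fromSpecStalk y) (IsLocalRing.comap_closedPoint (algebraMap O R)))]
    exact Y.fromSpecStalk_closedPoint)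
  let ρ : Spec (CommRingCat.of κ) ⟶ W := pullback.lift ζ ιR hζ
  haveI : IsClosedImmersion W' := MorphismProperty.pullback_snd _ _ inferInstance
  haveI : IsClosedImmersion (ρ ≫ W') := by rw [pullback.lift_snd]; infer_instance
  haveI : IsClosedImmersion ρ := IsClosedImmersion.of_comp ρ W'
  haveI : Surjective ρ := ⟨fun w => ⟨default, W'.isClosedEmbedding.injective ((hclosed _).trans (hclosed w).symm)⟩⟩
  -- the algebraic geometric point
  letI : Algebra (Y.residueField y : Type u) κ := (inferInstance : Algebra (ResidueField O) κ)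
  haveI : Algebra.IsSeparable (Y.residueField y : Type u) κ := hsc.separable
  haveI : Algebra.IsAlgebraic (Y.residueField y : Type u) κ := Algebra.IsSeparable.isAlgebraic _ _
  let τ : κ →ₐ[(Y.residueField y : Type u)] Ω := IsSepClosed.lift
  letI : Algebra κ Ω := τ.toRingHom.toAlgebra
  haveI : IsScalarTower (Y.residueField y : Type u) κ Ω := IsScalarTower.of_algebraMap_eq fun c => (τ.commutes c).symm
  haveI : Algebra.IsAlgebraic κ Ω := Algebra.IsAlgebraic.tower_top (K := (Y.residueField y : Type u)) (L := κ)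
  haveI : IsPurelyInseparable κ Ω := inferInstance
  let ω : Spec (CommRingCat.of Ω) ⟶ Spec (CommRingCat.of κ) := Spec.map (CommRingCat.ofHom (algebraMap κ Ω))
  haveI : IsIntegralHom ω := (IsIntegralHom.SpecMap_iff).2 (Algebra.IsIntegral.isIntegral (R := κ))
  haveI : UniversallyInjective ω := GrothLib.PurInsep.universallyInjective_specMap κ Ω
  haveI : Surjective ω := ⟨fun z => ⟨default, Subsingleton.elim (α := PrimeSpectrum κ) _ _⟩⟩
  have hgeom : ω ≫ ιR ≫ s = EtAcyc.geomPt Y y Ω := by
    change Spec.map _ ≫ Spec.map _ ≫ Spec.map _ ≫ Y.fromSpecStalk y = Spec.map _ ≫ Spec.map (Y.residue y) ≫ Y.fromSpecStalk y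
    simp only [← Category.assoc, ← Spec.map_comp]
    congr 2
    exact CommRingCat.hom_ext (RingHom.ext fun c => τ.commutes (residue O c))
  haveI : UniversallyInjective ρ := inferInstance
  haveI : IsIntegralHom ρ := inferInstance
  let w₀ := ω ≫ ρ
  haveI : IsIntegralHom w₀ := MorphismProperty.comp_mem _ ω ρ inferInstance inferInstance
  haveI : UniversallyInjective w₀ := MorphismProperty.comp_mem _ ω ρ inferInstance inferInstance
  haveI : Surjective w₀ := MorphismProperty.comp_mem _ ω ρ inferInstance inferInstance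
  -- the fibre over the strict localization
  let g₁ := pullback.fst (𝟙 Y) g
  haveI : QuasiCompact g₁ := MorphismProperty.pullback_fst _ _ inferInstance
  haveI : QuasiSeparated g₁ := MorphismProperty.pullback_fst _ _ inferInstance
  let P := pullback g₁ s
  let pr := pullback.fst g₁ s
  let pR := pullback.snd g₁ s
  let Q := pullback pR W'
  let iP := pullback.fst pR W'
  let qW := pullback.snd pR W'
  let V := pullback qW w₀
  let h := pullback.fst qW w₀
  haveI : IsClosedImmersion iP := MorphismProperty.pullback_fst _ _ inferInstance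
  haveI : IsIntegralHom h := MorphismProperty.pullback_fst _ _ inferInstance
  haveI : UniversallyInjective h := MorphismProperty.pullback_fst _ _ inferInstance
  haveI : Surjective h := MorphismProperty.pullback_fst _ _ inferInstance
  have hsq : IsPullback (pullback.snd qW w₀) ((h ≫ iP ≫ pr) ≫ pullback.snd (𝟙 Y) g) (EtAcyc.geomPt Y y Ω) g := by
    have h1 := (IsPullback.of_hasPullback qW w₀).flip.paste_vert
      ((IsPullback.of_hasPullback pR W').flip.paste_vert (IsPullback.of_hasPullback g₁ s).flip)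
    rw [show w₀ ≫ W' ≫ s = EtAcyc.geomPt Y y Ω by
      rw [Category.assoc, pullback.lift_snd_assoc, hgeom]] at h1
    have h2 := (IsPullback.of_hasPullback (𝟙 Y) g)
    simpa using h1.paste_vert h2
  let T := pullback g (EtAcyc.geomPt Y y Ω)
  let h' : T ⟶ Q := hsq.flip.isoPullback.inv ≫ h
  haveI : IsIntegralHom h' := MorphismProperty.comp_mem _ _ h inferInstance inferInstance
  haveI : UniversallyInjective h' := MorphismProperty.comp_mem _ _ h inferInstance inferInstance
  haveI : Surjective h' := MorphismProperty.comp_mem _ _ h inferInstance inferInstance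
  haveI := GrothLib.EtSite.pull_preservesFiniteLimits h'
  haveI := GrothLib.EtSite.pull_preservesFiniteLimits iP
  have hbc : IsPullback (qW ≫ Wc) iP i (pR ≫ s) :=
    (IsPullback.of_hasPullback pR W').flip.paste_horiz (IsPullback.of_hasPullback i s)
  have key : ∀ ℓ : ℕ, ℓ.Prime → ℓ ∈ L →
      Nat.card (EtCoh.H T (EtCoh.const T (ZMod ℓ)) 0) = ℓ ∧
        ∀ q : ℕ, 1 ≤ q → q ≤ n → Subsingleton (EtCoh.H T (EtCoh.const T (ZMod ℓ)) q) := by
    intro ℓ hℓ hℓL
    haveI : Fact ℓ.Prime := ⟨hℓ⟩
    let F := (EtCoh.push i).obj (EtCoh.const Z (ZMod ℓ))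
    have hF : EtAcyc.IsLTorsion L F := fun U x z => ⟨U, 𝟙 U, ℓ, ⟨z, rfl⟩,
      ⟨hℓ.pos, fun p hp hd => ((Nat.prime_dvd_prime_iff_eq hp hℓ).1 hd).symm ▸ hℓL⟩, by
        haveI : PreservesFiniteLimits (EtCoh.push i) :=
          ((EtCoh.pullPushAdj i).rightAdjoint_preservesLimits : PreservesLimitsOfSize.{0, 0} _).preservesFiniteLimits
        haveI : (EtCoh.push i).Additive := Functor.additive_of_preserves_binary_products _
        exact GrothLib.EtTrace21.nsmul_sect (GrothLib.DimFun18.killed_map (EtCoh.push i) (GrothLib.GalCd.killed_const ℓ)) _⟩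
    obtain ⟨hu, hR⟩ := (GrothLib.AcyN18.isAcyclicN_iff g L n).1 hg (EtCoh.top Y) F hF
    let C := EtCoh.const Z (ZMod ℓ)
    let CQ := EtCoh.const Q (ZMod ℓ)
    let G := (EtCoh.pull g₁).obj F
    haveI := Groth.Agent.S0655.result i (pR ≫ s) iP (qW ≫ Wc) hbc C
    let eP : (EtCoh.pull pr).obj G ≅ (EtCoh.push iP).obj CQ :=
      (EtCore.pullComp pr g₁).symm.app F ≪≫ (EtCore.pullCongr pullback.condition).app F ≪≫
        asIso (EtCoh.baseChange0 i (pR ≫ s) iP (qW ≫ Wc) hbc.w C) ≪≫
        (EtCoh.push iP).mapIso (EtCore.pullConst (qW ≫ Wc) (ZMod ℓ))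
    have eH : ∀ q, Nonempty (EtCoh.H T (EtCoh.const T (ZMod ℓ)) q ≃ EtCoh.H P ((EtCoh.pull pr).obj G) q) := fun q => by
      have b1 := Groth.Agent.S0642.result h' CQ q
      have b2 := GrothLib.EtDer.bijective_comp_mk₀ (A := (constantSheaf T.smallEtaleTopology AddCommGrpCat.{u + 1}).obj (AddCommGrpCat.of (ULift ℤ))) (EtCore.pullConst h' (ZMod ℓ)) q
      have b3 := Groth.Agent.S14451.result iP CQ (fun r hr => GrothLib.EtSite.isZero_Rpush_of_integral iP CQ r hr) q
      have b4 := GrothLib.EtDer.bijective_comp_mk₀ (A := (constantSheaf P.smallEtaleTopology AddCommGrpCat.{u + 1}).obj (AddCommGrpCat.of (ULift ℤ))) eP q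
      exact ⟨(((Equiv.ofBijective _ b4).trans (Equiv.ofBijective _ b3)).trans
        ((Equiv.ofBijective _ b1).trans (Equiv.ofBijective _ b2))).symm⟩
    refine ⟨?_, fun q hq1 hqn => ?_⟩
    · obtain ⟨E⟩ := eH 0
      rw [Nat.card_congr E]
      obtain ⟨N, e, he⟩ := GrothLib.EtLimit.exists_proNbhd_hens Y y R
      have hP : IsPullback (pR ≫ e.hom) pr N.bc g₁ :=
        (IsPullback.of_hasPullback g₁ s).flip.of_iso (Iso.refl _) e (Iso.refl _) (Iso.refl _)
          (by simp [pR]) (by simp [pr]) (by simp [he, s]) (by simp)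
      obtain ⟨θ⟩ := GrothLib.EtLimit.nonempty_stalk_push_iso hP
      obtain ⟨θ'⟩ := GrothLib.EtLimit.nonempty_HF_zero_iso P
      let η := Hens2.geomPt Y y R
      haveI : IsIso ((EtCoh.pullPushAdj g₁).unit.app F) := hu
      have hη : η = ζ ≫ i := hζ.symm
      let e1 := ((θ'.app ((EtCoh.pull pr).obj G)) ≪≫ (θ.app G).symm ≪≫
        (EtCoh.stalk η).mapIso (asIso ((EtCoh.pullPushAdj g₁).unit.app F)).symm).addCommGroupIsoToAddEquiv
      refine (Nat.card_congr e1.toEquiv).trans ?_
      change Nat.card ((EtCoh.stalk η).obj ((EtCoh.push i).obj C)) = ℓ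
      rw [hη, Nat.card_congr (GrothLib.EtSite.stalkPushIso i C ζ).addCommGroupIsoToAddEquiv.toEquiv]
      refine (Nat.card_congr (Equiv.ofBijective _
        (GrothLib.LocConst.bijective_germ_const ζ (AddCommGrpCat.of (ULift.{u + 1} (ZMod ℓ))))).symm).trans ?_
      change Nat.card (ULift.{u + 1} (ZMod ℓ)) = ℓ
      rw [Nat.card_congr Equiv.ulift, Nat.card_eq_fintype_card, ZMod.card]
    · obtain ⟨E⟩ := eH q
      obtain ⟨θ⟩ := GrothLib.EtLimit.nonempty_stalk_Rpush_hens g₁ y R q
      haveI := GrothLib.EtSite.additive_stalk (Hens2.geomPt Y y R)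
      haveI := AddCommGrpCat.subsingleton_of_isZero (((EtCoh.stalk (Hens2.geomPt Y y R)).map_isZero (hR q hq1 hqn)).of_iso (θ.app G).symm)
      haveI : Subsingleton (EtCoh.H P ((EtCoh.pull pr).obj G) q) := by assumption
      exact E.subsingleton
  obtain ⟨ℓ₀, hℓ₀, hℓ₀p⟩ := hL
  haveI : Fact ℓ₀.Prime := ⟨hℓ₀p⟩
  obtain ⟨h1, h2⟩ := nonempty_connectedSpace T ℓ₀ (key ℓ₀ hℓ₀p hℓ₀).1
  exact ⟨h1, h2, fun ℓ hℓ hℓL => (key ℓ hℓ hℓL).2⟩

end GrothLib.AcyFib18
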